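import Cfsg.Agent.H485.Rg.MinusC
import Cfsg.Agent.H997.Rg.FDm
import Cfsg.Agent.H370.Rg.Size
import Cfsg.Agent.H262.Rx.Name
import Cfsg.Agent.H454.Reg.NotLe

/-!
# S3691, the row of `PΩ₈⁻(q)` (helper485)

`row_minus8_of` : the row, given the residual class of `Sp₆` (`S5806`) and `|Out(J₁)| = 1`
-/

set_option autoImplicit false
set_option linter.unusedSectionVars false

namespace Cfsg.Agent.H485.Rg

open Module QuadraticMap Cfsg Cfsg.Geo Cfsg.Agent.LieClassical.OrthCore Cfsg.Agent.LieClassical.OrthTrans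
  Cfsg.Agent.H454.Reg Cfsg.Agent.H884.El Cfsg.Agent.H955 Cfsg.Agent.H954.TSing Cfsg.Agent.H449.Reg
open Cfsg.Agent.H964.Rg (ResV)
open Cfsg.Agent.H997.Rg (OutJ1 SzM fd_minus)
open scoped MatrixGroups Matrix

universe u

variable {G : Type u} [Group G] [Finite G] {T X Y : Subgroup G}

/-- there is no factorization with a residual vector -/
theorem C8.false_of_res {F : Type} [Field F] [Fintype F] {Q : QuadraticForm F (Fin 8 → F)} [T.Normal] {hG : Good Q}
    {eT : T ≃* POmega F (⇑Q)} {hI : Ind (eP hG eT)} {p f : ℕ} (hJ : OutJ1.{0}) (h : C8 hI X Y p f) {v : Fin 8 → F}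
    (hv : ResV hI X v) : False := by
  have hpf : (if p = 2 then 1 else 0) + f.factorization p = (2 * f).factorization p := by
    have hf0 : f ≠ 0 := by have := h.pos; omega
    rw [Nat.factorization_mul two_ne_zero hf0, Finsupp.add_apply, Nat.prime_two.factorization]
    congr 1
    rw [Finsupp.single_apply]
    simp only [eq_comm]
  refine fd_minus hJ h.prime h.pos (m := 4) le_rfl ⟨fun _ => h.big, by omega, fun _ => by have := h.big; omega⟩ h.card
    (by rw [Fintype.card_fin]) h.minus (fun r hr => h.out 8 r (by norm_num) hr) ?_ h.fac hv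
  rw [← hpf, add_comm]
  exact h.outT

/-- **the row of `PΩ₈⁻(q)`**, given `S5806` and `|Out(J₁)| = 1` -/
theorem row_minus8_of {F : Type} [Field F] [Fintype F] (h06 : ∀ H : Subgroup (GL (Fin 3 ⊕ Fin 3) F),
      IsMaximalIn (spGL 3 F) H → InSymplecticResidualClass H → H109.Cov.L06 H) (hJ : OutJ1.{0}) {a b : F}
    (hab : ∀ z₁ z₂ : F, z₁ ^ 2 + a * z₁ * z₂ + b * z₂ ^ 2 = 0 → z₁ = 0 ∧ z₂ = 0) :
    Row.{0, u} (POmega F (quadFormMinus 3 F a b)) := by
  intro G _ _ T H B h e
  exfalso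
  have hn := h.normal
  obtain ⟨e0⟩ := e
  have hg := Cfsg.Agent.H262.Rx.named_ominus (m := 4) le_rfl hab e0
  have hq := (Cfsg.Agent.H370.Rg.ominus_ge h.large_socle hg).1 rfl
  obtain ⟨p, hp⟩ := CharP.exists F
  obtain ⟨f, hpp, hF⟩ := FiniteField.card F p
  rw [hF] at hq
  obtain ⟨Q, hG, eT, hI, h8, v, hv⟩ := minus8 h06 hpp f.pos hF hq hab h.toFac ⟨e0⟩
  rcases hv with hv | hv
  · exact h8.false_of_res hJ hv
  · exact h8.symm.false_of_res hJ hv

end Cfsg.Agent.H485.Rg
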