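import Cfsg.Agent.H449.Reg.Fix

/-!
# S3691: the group induced on `v^⊥ / v`, characteristic two (helper485)

* `bar A U v` : the group induced by `A` on the complement `U` of `v` in `v^⊥`
* `bar_polar`, `card_bar`, `nondeg_compl`, `exists_compl`
* `resHom` : restriction to `v^⊥` in odd characteristic, `fac_le_resG`
-/

set_option autoImplicit false
set_option linter.unusedSectionVars false

namespace Cfsg.Agent.H485.Rg

open Module QuadraticMap Cfsg Cfsg.Geo Cfsg.Agent.LieClassical.OrthCore Cfsg.Agent.LieClassical.OrthTrans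
  Cfsg.Agent.H884.El Cfsg.Agent.H955 Cfsg.Agent.H954.TSing Cfsg.Agent.H449.Reg
open Cfsg.Agent.H951 (fx cm Inv)
open Cfsg.Agent.LieClassical.OrthFinite (glEquiv glEquiv_apply)
open scoped MatrixGroups Matrix

universe u v

section Even

variable {F : Type u} [Field F] {V : Type v} [AddCommGroup V] [Module F V]
  {Q : QuadraticForm F V} {A : Subgroup (V ≃ₗ[F] V)} {U : Submodule F V} {v : V}

theorem mem_perp_span {w : V} : w ∈ perp Q (F ∙ v) ↔ polar Q v w = 0 := by
  constructor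
  · intro h
    exact h v (Submodule.mem_span_singleton_self v)
  · intro h z hz
    obtain ⟨c, rfl⟩ := Submodule.mem_span_singleton.1 hz
    rw [polar_smul_left, h, smul_zero]

theorem exists_compl (h2 : (2 : F) = 0) : ∃ U : Submodule F V, U ⊔ F ∙ v = perp Q (F ∙ v) ∧ U ⊓ F ∙ v = ⊥ := by
  have hv : F ∙ v ≤ perp Q (F ∙ v) := by
    rw [Submodule.span_singleton_le_iff_mem, mem_perp_span, polar_self', h2, zero_mul]
  obtain ⟨W, hW⟩ := (F ∙ v).exists_isCompl
  refine ⟨W ⊓ perp Q (F ∙ v), ?_, ?_⟩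
  · rw [sup_comm, ← sup_inf_assoc_of_le _ hv, hW.sup_eq_top, top_inf_eq]
  · rw [eq_bot_iff, ← hW.inf_eq_bot]
    exact le_inf inf_le_right (inf_le_left.trans inf_le_left)

theorem polar_v_U (hU : U ⊔ F ∙ v = perp Q (F ∙ v)) {u : V} (hu : u ∈ U) : polar Q v u = 0 := by
  rw [← mem_perp_span, ← hU]
  exact Submodule.mem_sup_left hu

theorem polar_add_smul (h2 : (2 : F) = 0) (hU : U ⊔ F ∙ v = perp Q (F ∙ v)) {u w : V} (hu : u ∈ U) (hw : w ∈ U) (c d : F) :
    polar Q (u + c • v) (w + d • v) = polar Q u w := by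
  have e1 := polar_v_U hU hu
  have e2 := polar_v_U hU hw
  have e3 : polar Q u v = 0 := by rw [polar_comm]; exact e1
  have e4 : polar Q v v = 0 := by rw [polar_self', h2, zero_mul]
  rw [polar_add_left, polar_add_right, polar_add_right, polar_smul_left, polar_smul_left, polar_smul_right,
    polar_smul_right, e2, e3, e4]
  simp

/-- the form on the complement -/
theorem nondeg_compl [FiniteDimensional F V] (hQ : Nondeg Q) (hU : U ⊔ F ∙ v = perp Q (F ∙ v))
    (hU0 : U ⊓ F ∙ v = ⊥) : Nondeg (res Q U) := by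
  rw [nondeg_res_iff]
  intro u hu hperp
  have h1 : u ∈ perp Q (perp Q (F ∙ v)) := by
    rw [← hU]
    intro z hz
    obtain ⟨a, ha, b, hb, rfl⟩ := Submodule.mem_sup.1 hz
    obtain ⟨c, rfl⟩ := Submodule.mem_span_singleton.1 hb
    rw [polar_add_left, polar_smul_left, polar_v_U hU hu, smul_zero, add_zero, polar_comm]
    exact hperp a ha
  rw [perp_perp hQ] at h1
  have h2 : u ∈ U ⊓ F ∙ v := ⟨hu, h1⟩
  rw [hU0] at h2
  exact (Submodule.mem_bot F).1 h2

theorem finrank_compl [FiniteDimensional F V] (hQ : Nondeg Q) (hv0 : v ≠ 0) (hU : U ⊔ F ∙ v = perp Q (F ∙ v))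
    (hU0 : U ⊓ F ∙ v = ⊥) : finrank F U + 2 = finrank F V := by
  have h1 := Submodule.finrank_sup_add_finrank_inf_eq U (F ∙ v)
  rw [hU, hU0, finrank_bot, finrank_perp hQ, finrank_span_singleton hv0] at h1
  have h2 : 1 ≤ finrank F V := by
    rw [← finrank_span_singleton (K := F) hv0]
    exact Submodule.finrank_le _
  omega

/-- the group induced on the complement -/
def bar (A : Subgroup (V ≃ₗ[F] V)) (U : Submodule F V) (v : V) (hAv : ∀ a ∈ A, a v = v) : Subgroup (U ≃ₗ[F] U) where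
  carrier := {x | ∃ a ∈ A, ∀ u : U, ∃ c : F, a (u : V) = (x u : V) + c • v}
  mul_mem' := by
    rintro x y ⟨a, ha, hax⟩ ⟨b, hb, hby⟩
    refine ⟨a * b, A.mul_mem ha hb, fun u => ?_⟩
    obtain ⟨c, hc⟩ := hby u
    obtain ⟨d, hd⟩ := hax (y u)
    refine ⟨d + c, ?_⟩
    change a (b u) = _
    rw [hc, map_add, map_smul, hAv a ha, hd, add_assoc, ← add_smul]
    rfl
  one_mem' := ⟨1, A.one_mem, fun u => ⟨0, by rw [zero_smul, add_zero]; rfl⟩⟩
  inv_mem' := by
    rintro x ⟨a, ha, hax⟩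
    refine ⟨a⁻¹, A.inv_mem ha, fun u => ?_⟩
    obtain ⟨c, hc⟩ := hax (x⁻¹ u)
    refine ⟨-c, ?_⟩
    have h1 : x (x⁻¹ u) = u := by change (x * x⁻¹) u = u; rw [mul_inv_cancel]; rfl
    have h3 : a⁻¹ v = v := hAv _ (A.inv_mem ha)
    rw [h1] at hc
    have h4 : (u : V) = a ((x⁻¹ u : U) : V) - c • v := by rw [hc]; abel
    have h5 : ∀ w : V, a⁻¹ (a w) = w := fun w => by
      change (a⁻¹ * a) w = w
      rw [inv_mul_cancel]; rfl
    rw [h4, map_sub, h5, map_smul, h3]
    rw [neg_smul]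
    abel

theorem mem_bar {hAv : ∀ a ∈ A, a v = v} {x : U ≃ₗ[F] U} :
    x ∈ bar A U v hAv ↔ ∃ a ∈ A, ∀ u : U, ∃ c : F, a (u : V) = (x u : V) + c • v := Iff.rfl

theorem bar_polar (h2 : (2 : F) = 0) (hA : A ≤ O Q) {hAv : ∀ a ∈ A, a v = v} (hU : U ⊔ F ∙ v = perp Q (F ∙ v))
    {x : U ≃ₗ[F] U} (hx : x ∈ bar A U v hAv) (u w : U) : polar (res Q U) (x u) (x w) = polar (res Q U) u w := by
  obtain ⟨a, ha, hax⟩ := hx
  obtain ⟨c, hc⟩ := hax u
  obtain ⟨d, hd⟩ := hax w
  rw [polar_res, polar_res, ← polar_add_smul h2 hU (x u).2 (x w).2 c d, ← hc, ← hd]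
  have h1 := hA ha
  rw [mem_O] at h1
  simp only [polar, ← map_add, h1]

/-- the elements of the group acting on the complement -/
theorem exists_bar (hA : A ≤ O Q) (hAv : ∀ a ∈ A, a v = v) (hU : U ⊔ F ∙ v = perp Q (F ∙ v))
    (hU0 : U ⊓ F ∙ v = ⊥) {a : V ≃ₗ[F] V} (ha : a ∈ A) :
    ∃ x : U ≃ₗ[F] U, ∀ u : U, ∃ c : F, a (u : V) = (x u : V) + c • v := by
  -- a projection
  obtain ⟨W, hW⟩ := (U ⊔ F ∙ v).exists_isCompl
  have hcompl : IsCompl U (F ∙ v ⊔ W) := by
    refine IsCompl.of_eq ?_ ?_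
    · rw [eq_bot_iff]
      rintro z ⟨hz, hz'⟩
      obtain ⟨y, hy, w, hw, rfl⟩ := Submodule.mem_sup.1 hz'
      have h1 : w ∈ (U ⊔ F ∙ v) ⊓ W := by
        refine ⟨?_, hw⟩
        have h3 : w = (y + w) - y := by abel
        rw [h3]
        exact Submodule.sub_mem _ (Submodule.mem_sup_left hz) (Submodule.mem_sup_right hy)
      rw [hW.inf_eq_bot, Submodule.mem_bot] at h1
      rw [h1, add_zero] at hz ⊢
      rw [← hU0]
      exact ⟨hz, hy⟩
    · rw [← sup_assoc, hW.sup_eq_top]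
  let π : V →ₗ[F] U := U.projectionOnto (F ∙ v ⊔ W) hcompl
  have hπU : ∀ u : U, π u = u := fun u => Submodule.projectionOnto_apply_left hcompl u
  have hπv : π v = 0 := (Submodule.projectionOnto_apply_eq_zero_iff hcompl).2
    (Submodule.mem_sup_left (Submodule.mem_span_singleton_self v))
  have hstep : ∀ b ∈ A, ∀ u : U, ∃ c : F, b (u : V) = (π (b u) : V) + c • v := by
    intro b hb u
    have h1 : b (u : V) ∈ perp Q (F ∙ v) := by
      rw [mem_perp_span]
      have h3 := hA hb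
      rw [mem_O] at h3
      have h4 : polar Q (b v) (b u) = polar Q v u := by simp only [polar, ← map_add, h3]
      rw [hAv b hb] at h4
      rw [h4]
      exact polar_v_U hU u.2
    rw [← hU] at h1
    obtain ⟨y, hy, z, hz, hyz⟩ := Submodule.mem_sup.1 h1
    obtain ⟨c, rfl⟩ := Submodule.mem_span_singleton.1 hz
    refine ⟨c, ?_⟩
    rw [← hyz, map_add, map_smul, hπv, smul_zero, add_zero]
    have := hπU ⟨y, hy⟩
    rw [show (π y : U) = ⟨y, hy⟩ from this]
  have hinv : ∀ b ∈ A, ∀ b' ∈ A, (∀ w, b' (b w) = w) → ∀ u : U, π (b' (π (b u) : V)) = u := by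
    intro b hb b' hb' hbb u
    obtain ⟨c, hc⟩ := hstep b hb u
    have h1 : ((π (b u) : U) : V) = b u - c • v := (sub_eq_of_eq_add hc).symm
    rw [h1, map_sub, hbb, map_smul, hAv b' hb', map_sub, map_smul, hπv, smul_zero, sub_zero, hπU]
  have hai : a⁻¹ ∈ A := A.inv_mem ha
  refine ⟨LinearEquiv.ofLinearMap (π ∘ₗ (a : V →ₗ[F] V) ∘ₗ U.subtype) (π ∘ₗ ((a⁻¹ : V ≃ₗ[F] V) : V →ₗ[F] V) ∘ₗ U.subtype)
    (LinearMap.ext fun u => ?_) (LinearMap.ext fun u => ?_), fun u => ?_⟩
  · exact hinv _ hai _ ha (fun w => by change (a * a⁻¹) w = w; rw [mul_inv_cancel]; rfl) u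
  · exact hinv _ ha _ hai (fun w => by change (a⁻¹ * a) w = w; rw [inv_mul_cancel]; rfl) u
  · exact hstep a ha u

/-- **the order of the induced group** -/
theorem card_bar [Finite (V ≃ₗ[F] V)] (hA : A ≤ O Q) (hAv : ∀ a ∈ A, a v = v) (hU : U ⊔ F ∙ v = perp Q (F ∙ v))
    (hU0 : U ⊓ F ∙ v = ⊥) (hone : ∀ a ∈ A, (∀ u ∈ perp Q (F ∙ v), ∃ c : F, a u = u + c • v) → a = 1) :
    Nat.card (bar A U v hAv) = Nat.card A := by
  -- uniqueness
  have huniq : ∀ {x y : U} {c d : F}, (x : V) + c • v = (y : V) + d • v → x = y := by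
    intro x y c d h
    have h1 : (x : V) - y = (d - c) • v := by
      rw [sub_smul, sub_eq_sub_iff_add_eq_add, h, add_comm]
    have h3 : (x : V) - y ∈ U ⊓ F ∙ v := ⟨U.sub_mem x.2 y.2, by rw [h1]; exact Submodule.smul_mem _ _ (Submodule.mem_span_singleton_self v)⟩
    rw [hU0, Submodule.mem_bot, sub_eq_zero] at h3
    exact Subtype.ext h3
  choose x hx using fun (a : A) => exists_bar hA hAv hU hU0 a.2
  have hmem : ∀ a : A, x a ∈ bar A U v hAv := fun a => ⟨a, a.2, hx a⟩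
  refine Nat.card_congr (Equiv.ofBijective (fun a : A => (⟨x a, hmem a⟩ : bar A U v hAv)) ⟨?_, ?_⟩).symm
  · intro a b hab
    have h1 : x a = x b := congrArg Subtype.val hab
    have h3 : (a⁻¹ * b : V ≃ₗ[F] V) = 1 := by
      apply hone _ (A.mul_mem (A.inv_mem a.2) b.2)
      intro w hw
      rw [← hU] at hw
      obtain ⟨u, hu, z, hz, rfl⟩ := Submodule.mem_sup.1 hw
      obtain ⟨e, rfl⟩ := Submodule.mem_span_singleton.1 hz
      obtain ⟨c, hc⟩ := hx a ⟨u, hu⟩
      obtain ⟨d, hd⟩ := hx b ⟨u, hu⟩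
      refine ⟨d - c, ?_⟩
      have h5 : ∀ w : V, (a : V ≃ₗ[F] V)⁻¹ ((a : V ≃ₗ[F] V) w) = w := fun w => by
        change ((a : V ≃ₗ[F] V)⁻¹ * a) w = w
        rw [inv_mul_cancel]; rfl
      have h6 : (a : V ≃ₗ[F] V)⁻¹ v = v := hAv _ (A.inv_mem a.2)
      have h7 : (b : V ≃ₗ[F] V) u = (a : V ≃ₗ[F] V) u + (d - c) • v := by
        have hc' : (a : V ≃ₗ[F] V) u = _ := hc
        have hd' : (b : V ≃ₗ[F] V) u = _ := hd
        rw [hc', hd', h1, sub_smul]
        abel
      change (a : V ≃ₗ[F] V)⁻¹ ((b : V ≃ₗ[F] V) (u + e • v)) = _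
      rw [map_add, map_smul, hAv _ b.2, h7, map_add, map_add, map_smul, map_smul, h5, h6]
      abel
    apply Subtype.ext
    exact (inv_mul_eq_one.1 h3)
  · rintro ⟨y, a, ha, hay⟩
    refine ⟨⟨a, ha⟩, Subtype.ext (LinearEquiv.ext fun u => ?_)⟩
    obtain ⟨c, hc⟩ := hx ⟨a, ha⟩ u
    obtain ⟨d, hd⟩ := hay u
    exact huniq (hc.symm.trans hd)

end Even

section Odd

variable {ι : Type} [Fintype ι] [DecidableEq ι] {F : Type v} [Field F] {Q : QuadraticForm F (ι → F)}
  {H : Subgroup (GL ι F)} {U : Submodule F (ι → F)}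

/-- the restriction homomorphism -/
noncomputable def resHom (hHU : H ≤ subspaceStabilizer U) : H →* (U ≃ₗ[F] U) where
  toFun g := rst g.1 (hHU g.2)
  map_one' := by
    apply LinearEquiv.ext
    intro u
    apply Subtype.ext
    rw [rst_apply, Subgroup.coe_one, Units.val_one, Matrix.one_mulVec]
    rfl
  map_mul' a b := by
    apply LinearEquiv.ext
    intro u
    apply Subtype.ext
    rw [rst_apply, Subgroup.coe_mul, Units.val_mul, ← Matrix.mulVec_mulVec]
    rfl

theorem range_resHom (hHU : H ≤ subspaceStabilizer U) : (resHom hHU).range = resG U H := by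
  ext e
  constructor
  · rintro ⟨g, rfl⟩
    exact rst_mem (hHU g.2) g.2
  · rintro ⟨h, hh, he⟩
    refine ⟨⟨h, hh⟩, LinearEquiv.ext fun u => Subtype.ext ?_⟩
    rw [he]
    rfl

/-- the order of the group induced on a subspace, if the kernel is a `2`-group -/
theorem fac_le_resG [Finite F] (hHU : H ≤ subspaceStabilizer U)
    (hker : ∀ g ∈ H, (∀ u ∈ U, (g : Matrix ι ι F) *ᵥ u = u) → g ^ 2 = 1) {r : ℕ} (hr : r.Prime) (hr2 : r ≠ 2) :
    (Nat.card H).factorization r ≤ (Nat.card (resG U H)).factorization r := by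
  have := Fact.mk hr
  have hfin : Finite (GL ι F) := inferInstance
  have h1 : Nat.card (resHom hHU).ker * Nat.card (resHom hHU).range = Nat.card H := by
    rw [← Subgroup.index_ker]
    exact Subgroup.card_mul_index _
  have h2 : ¬ r ∣ Nat.card (resHom hHU).ker := by
    intro hd
    obtain ⟨g, hg⟩ := exists_prime_orderOf_dvd_card' r hd
    have h3 : ((g : H) : GL ι F) ^ 2 = 1 := by
      refine hker _ (g : H).2 fun u hu => ?_
      have h4 : resHom hHU (g : H) = 1 := g.2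
      have h5 := congrArg (fun e : U ≃ₗ[F] U => ((e ⟨u, hu⟩ : U) : ι → F)) h4
      exact h5
    have h4 : orderOf g ∣ 2 := by
      rw [← Subgroup.orderOf_coe, ← Subgroup.orderOf_coe]
      exact orderOf_dvd_of_pow_eq_one h3
    rw [hg] at h4
    exact hr2 ((Nat.prime_dvd_prime_iff_eq hr Nat.prime_two).1 h4)
  rw [← range_resHom hHU, ← h1, Nat.factorization_mul Nat.card_pos.ne' (by
    have : Finite (resHom hHU).range := Finite.of_surjective _ (resHom hHU).rangeRestrict_surjective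
    exact Nat.card_pos.ne'), Finsupp.add_apply, Nat.factorization_eq_zero_of_not_dvd h2, zero_add]

end Odd

end Cfsg.Agent.H485.Rg
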