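import Cfsg.Agent.H449.Reg.Pre

/-!
# S3691: the residual cases F-D-, F-D+1 (helper485)

`ResD hI Y v` : `T ≃* PΩ(Q)`, `Y` fixes the point `⟨v⟩`, `Q v ≠ 0`, and the preimage of `Y ∩ T` contains the derived group of
the stabiliser of `v` : all Siegel transformations supported by `v^⊥`.
-/

set_option autoImplicit false
set_option linter.unusedSectionVars false

namespace Cfsg.Agent.H485.Rg

open Module QuadraticMap Cfsg Cfsg.Geo Cfsg.Agent.LieClassical.OrthCore Cfsg.Agent.LieClassical.OrthTrans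
  Cfsg.Agent.H454.Reg Cfsg.Agent.H884.El Cfsg.Agent.H955 Cfsg.Agent.H954.TSing Cfsg.Agent.H449.Reg
open Cfsg.Agent.LieClassical.OrthFinite (glEquiv)
open scoped MatrixGroups Matrix

universe u v

/-- **the residual cases F-D-, F-D+1** -/
structure ResD {ι : Type} [Fintype ι] [DecidableEq ι] {F : Type v} [Field F] {Q : QuadraticForm F (ι → F)}
    {G : Type u} [Group G] {T : Subgroup G} [T.Normal] {hG : Good Q} {eT : T ≃* POmega F (⇑Q)} (hI : Ind (eP hG eT))
    (Y : Subgroup G) (v : ι → F) : Prop where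
  ne : Q v ≠ 0
  fix : ∀ y ∈ Y, act hI y (F ∙ v) = F ∙ v
  sieg : ∀ (u w : ι → F) (hu : Q u = 0) (hw : polar Q u w = 0), polar Q u v = 0 → polar Q w v = 0 →
    (glEquiv ι F).symm (siegel Q u w hu hw) ∈ preG eT Y

end Cfsg.Agent.H485.Rg
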