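import Cfsg.Agent.H975.Cov.Kill
import Cfsg.Agent.H449.Reg.Abs
import Cfsg.Agent.H449.Reg.Fix
import Cfsg.Agent.H905.SLProper
import Cfsg.Agent.H485.Rg.ResD

/-!
# S3691, `Ω₈⁻(q)`, `q > 13`: the factors (helper485)

* `C8 hI X Y p f` : a factorization of a group with socle `T ≃* PΩ(Q)`, `dim = 8`, minus type
* `C8.field` : the factor containing `r_8` normalises a quadratic field, `r_6` and `r_3` are in the other one
* `C8.point` : the other factor fixes a nonsingular point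
-/

set_option autoImplicit false
set_option linter.unusedSectionVars false

namespace Cfsg.Agent.H485.Rg

open Module QuadraticMap Cfsg Cfsg.Geo Cfsg.Agent.LieClassical.OrthCore Cfsg.Agent.LieClassical.OrthTrans
  Cfsg.Agent.H454.Reg Cfsg.Agent.H884.El Cfsg.Agent.H955 Cfsg.Agent.H954.TSing Cfsg.Agent.H449.Reg
open Cfsg.Agent.H951 (fx cm Inv)
open Cfsg.Agent.H278.Cov (Red)
open Cfsg.Agent.LieClassical.OrthFinite (glEquiv glEquiv_apply)
open scoped MatrixGroups Matrix

universe u v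

variable {F : Type} [Field F] [Fintype F] {Q : QuadraticForm F (Fin 8 → F)}
variable {G : Type u} [Group G] [Finite G] {T : Subgroup G} [T.Normal] {hG : Good Q} {eT : T ≃* POmega F (⇑Q)}
  {hI : Ind (eP hG eT)} {X Y : Subgroup G} {p f : ℕ}

/-- a factorization of a group with socle `Ω₈⁻(q)` -/
structure C8 (hI : Ind (eP hG eT)) (X Y : Subgroup G) (p f : ℕ) : Prop where
  fac : Fac T X Y
  prime : p.Prime
  pos : 1 ≤ f
  card : Nat.card F = p ^ f
  big : 13 < p ^ f
  minus : ¬ IsPlus Q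
  out : ∀ k r, 3 ≤ k → PP p (f * k) r → ¬ r ∣ Nat.card (Cfsg.Out T)
  dvd : ∀ k r, (k = 8 ∨ k = 6 ∨ k = 3) → PP p (f * k) r → r ∣ Nat.card T
  cardT : 12 * f ≤ (Nat.card T).factorization p
  outT : (Nat.card (Cfsg.Out T)).factorization p ≤ f.factorization p + (if p = 2 then 1 else 0)

namespace C8

theorem symm (h : C8 hI X Y p f) : C8 hI Y X p f :=
  ⟨h.fac.symm, h.prime, h.pos, h.card, h.big, h.minus, h.out, h.dvd, h.cardT, h.outT⟩

theorem pp (h : C8 hI X Y p f) {k r : ℕ} (hr : PP p (f * k) r) : PP (Nat.card F) k r := by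
  rw [h.card]; exact hr.of_pow h.pos

theorem finV : finrank F (Fin 8 → F) = 8 := by rw [Module.finrank_fintype_fun_eq_card, Fintype.card_fin]

/-- a prime not dividing the order of one factor divides that of the other one -/
theorem other (h : C8 hI X Y p f) {k r : ℕ} (hk : k = 8 ∨ k = 6 ∨ k = 3) (hr : PP p (f * k) r)
    (hX : ¬ r ∣ Nat.card (X.subgroupOf T)) : r ∣ Nat.card (Y.subgroupOf T) :=
  (h.fac.prime_dvd hr.prime (h.dvd k r hk hr) (h.out k r (by omega) hr)).resolve_left hX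

/-- elements of prime order in the preimage -/
theorem elt (h : C8 hI X Y p f) {k r : ℕ} (hr : PP p (f * k) r) (hk : 2 ≤ k) (hd : r ∣ Nat.card (X.subgroupOf T)) :
    ∃ g ∈ preG eT X, Iso Q (lin g) r ∧ orderOf g = r ∧ g ≠ 1 := by
  obtain ⟨g, hg, hiso, hgr, hg1⟩ := exists_elt (preG_le (eT := eT) (X := X)) (h.pp hr) hk (hd.trans card_dvd_preG)
  have := Fact.mk hr.prime
  exact ⟨g, hg, hiso, orderOf_eq_prime hgr hg1, hg1⟩

/-- a maximal overgroup -/
theorem exists_max (h : C8 hI X Y p f) : ∃ M, IsMaximalIn (omegaGL (⇑Q)) M ∧ preG eT X ≤ M :=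
  Cfsg.Agent.H905.exists_isMaximalIn_of_lt (lt_of_le_of_ne preG_le_omega fun h1 =>
    not_omega_le h.fac.not_le_left h1.ge)

end C8

/-- the data of the two factors -/
structure Side (hI : Ind (eP hG eT)) (X Y : Subgroup G) (p f r₈ r₆ r₃ : ℕ) (v : Fin 8 → F) : Prop where
  pp8 : PP p (f * 8) r₈
  pp6 : PP p (f * 6) r₆
  pp3 : PP p (f * 3) r₃
  x8 : r₈ ∣ Nat.card (X.subgroupOf T)
  fld : ∃ K : Subalgebra F (Matrix (Fin 8) (Fin 8) F), IsFieldSubalgebra 2 K ∧ preG eT X ≤ subalgebraNormalizer K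
  y6 : r₆ ∣ Nat.card (Y.subgroupOf T)
  y3 : r₃ ∣ Nat.card (Y.subgroupOf T)
  ne : Q v ≠ 0
  fix : ∀ y ∈ Y, act hI y (F ∙ v) = F ∙ v

namespace C8

/-- **the two factors** -/
theorem side (h : C8 hI X Y p f) {r₈ r₆ r₃ : ℕ} (h8 : PP p (f * 8) r₈) (h6 : PP p (f * 6) r₆) (h3 : PP p (f * 3) r₃)
    (h3f : ¬ r₃ ∣ f) (hX : r₈ ∣ Nat.card (X.subgroupOf T)) : ∃ v, Side hI X Y p f r₈ r₆ r₃ v := by
  have hQ : Nondeg Q := hG.nondeg
  have hq := h.big
  have hn : H975.Cov.Num F p f r₈ r₆ r₃ :=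
    ⟨h.prime, h.pos, h.card, h8, h.pp h3, h3f, Or.inr ⟨by rw [h.card]; omega, h6⟩⟩
  -- the factor `X`
  obtain ⟨a, ha, hai, hao, ha1⟩ := h.elt h8 (by norm_num) hX
  obtain ⟨M, hM, hXM⟩ := h.exists_max
  obtain ⟨K, hK, hMK⟩ := H975.Cov.a_case hn hQ h.minus hM (hXM ha) hao
  have h6X : ¬ r₆ ∣ Nat.card (X.subgroupOf T) := by
    intro hd
    obtain ⟨b, hb, hbi, hbo, hb1⟩ := h.elt h6 (by norm_num) hd
    obtain ⟨X', U', hB⟩ := H975.Cov.bp_prime hQ h.minus (h.pp h6) (preG_le hb) hbo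
    exact H975.Cov.ab_false hn hQ h.minus hM (hXM ha) hao (hXM hb) hB
  have h3X : ¬ r₃ ∣ Nat.card (X.subgroupOf T) := fun hd =>
    no_quadratic_field hQ (preG_le (eT := eT) (X := X)) (h.pp h3) (by decide) le_rfl (by rw [Fintype.card_fin]; norm_num)
      (hd.trans card_dvd_preG) hK (hXM.trans hMK)
  have h6Y := h.other (by norm_num) h6 h6X
  have h3Y := h.other (by norm_num) h3 h3X
  -- the factor `Y`
  obtain ⟨b, hb, hbi, hbo, hb1⟩ := h.symm.elt h6 (by norm_num) h6Y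
  obtain ⟨c, hc, hci, hco, hc1⟩ := h.symm.elt h3 (by norm_num) h3Y
  obtain ⟨X', U', hB⟩ := H975.Cov.bp_prime hQ h.minus (h.pp h6) (preG_le hb) hbo
  obtain ⟨N, hN, hYN⟩ := h.symm.exists_max
  have hNI : N ≤ Cfsg.isometryGroup F (⇑Q) := hN.1.le.trans H975.Cov.omegaGL_le'
  have hck := fun hh => H975.Cov.c_kill (H := N) hn hQ h.minus hNI (hYN hc) hco hh
  have hline : ∃ v, Q v ≠ 0 ∧ N ≤ subspaceStabilizer (Submodule.span F {v}) := by
    rcases H975.Cov.b_case hn hQ h.minus hN (hYN hb) hbo hB with h1 | ⟨-, h1⟩ | h1 | ⟨-, h1⟩ | h1 | h1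
    · exact (hck (Or.inl h1)).elim
    · exact h1
    · exact (hck (Or.inr (Or.inl h1))).elim
    · exact h1
    · exact (hck (Or.inr (Or.inr (Or.inl h1)))).elim
    · exact (hck (Or.inr (Or.inr (Or.inr h1)))).elim
  obtain ⟨v₀, hv₀, hv₀N⟩ := hline
  have hv₀0 : v₀ ≠ 0 := by
    rintro rfl
    exact hv₀ (QuadraticMap.map_zero Q)
  have hred : Red (preG eT Y) := by
    refine ⟨F ∙ v₀, ?_, ?_, hYN.trans hv₀N⟩
    · rwa [Ne, Submodule.span_singleton_eq_bot]
    · intro h1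
      have h2 := finrank_span_singleton (K := F) hv₀0
      rw [h1, finrank_top, finV] at h2
      omega
  obtain ⟨S, hS0, hS, hSY⟩ := red_fixed hI (h.pp h6) (by norm_num) (by rw [Fintype.card_fin]; norm_num) hb
    (by rw [← hbo, pow_orderOf_eq_one]) hb1 hred
  -- the fixed spaces of `b` and `c`
  obtain ⟨hbcm, hbm⟩ := hbi.even_case hQ (lin_ne_one hb1) (h.pp h6) (by decide) (by rw [finV]; norm_num)
  have hbadd := hbi.finrank_add
  rw [finV] at hbadd
  obtain ⟨hccm, hcP, -⟩ := hci.odd_case hQ (lin_ne_one hc1) (h.pp h3) (by decide) (by rw [finV]; norm_num)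
  have hcadd := hci.finrank_add
  rw [finV] at hcadd
  have hbfx : finrank F ↥(fx (lin b)) = 2 := by omega
  have hcfx : finrank F ↥(fx (lin c)) = 2 := by omega
  have hcm : ¬ IsPlus (res Q (fx (lin c))) := by
    intro h1
    exact h.minus ((hci.isPlus_fx hQ (by rw [finV]; decide) (by rw [hccm]; decide)).2 (iff_of_true hcP h1))
  have hbp : IsPlus (res Q (fx (lin b))) := by
    by_contra h1
    exact h.minus ((hbi.isPlus_fx hQ (by rw [finV]; decide) (by rw [hbcm]; decide)).2 (iff_of_false hbm h1))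
  have hSc : S ≤ fx (lin c) := by
    have h1 := (inv0_iff hG (h := hI) (X := Y) (W := S)).1 (fun t ht => hSY _ ht)
    refine hci.le_fx (h.pp h3) (inv_of_mem (h1 hc)) ?_
    have := Submodule.finrank_mono hS
    omega
  have hS1 : finrank F S = 1 := by
    have h1 := Submodule.finrank_mono hS
    have h2 : 0 < finrank F S := Submodule.one_le_finrank_iff.2 hS0
    by_contra hne
    have h3 : finrank F S = 2 := by omega
    have h4 : S = fx (lin b) := Submodule.eq_of_le_of_finrank_eq hS (by omega)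
    have h5 : S = fx (lin c) := Submodule.eq_of_le_of_finrank_eq hSc (by omega)
    rw [← h4, h5] at hbp
    exact hcm hbp
  obtain ⟨v, hvS, hv0⟩ := Submodule.exists_mem_ne_zero_of_ne_bot hS0
  have hSv : S = F ∙ v := by
    symm
    apply Submodule.eq_of_le_of_finrank_eq ((Submodule.span_singleton_le_iff_mem v S).2 hvS)
    rw [finrank_span_singleton hv0, hS1]
  refine ⟨v, h8, h6, h3, hX, ⟨K, hK, hXM.trans hMK⟩, h6Y, h3Y, fun h1 => hv0 (aniso_of_not_plus hcfx hcm (hSc hvS) h1),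
    fun y hy => by rw [← hSv]; exact hSY y hy⟩

/-- **the `p`-part of the order of `Y ∩ T`** -/
theorem le_parts (h : C8 hI X Y p f)
    (hX : (Nat.card (preG eT X)).factorization p ≤ 4 * f + (if p = 2 then 2 else 0)) :
    8 * f ≤ (Nat.card (Y.subgroupOf T)).factorization p + f.factorization p + (if p = 2 then 3 else 0) := by
  have h1 := h.fac.val_ge p
  have h2 := h.cardT
  have h3 := h.outT
  have h4 : (Nat.card (X.subgroupOf T)).factorization p ≤ (Nat.card (preG eT X)).factorization p := by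
    have hfin : Finite (GL (Fin 8) F) := inferInstance
    exact (Nat.factorization_le_iff_dvd Nat.card_pos.ne' Nat.card_pos.ne').2 card_dvd_preG p
  split_ifs at * <;> omega

end C8

end Cfsg.Agent.H485.Rg
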