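import Cfsg.Agent.H485.Rg.MinusA
import Cfsg.Agent.H485.Rg.RelU
import Cfsg.Agent.H142.Rg.SevenB
import Cfsg.Agent.H96.Rg.SixCore
import Cfsg.Agent.H212.Rg.Minus8
import Cfsg.Agent.H976.Rg.Inst
import Cfsg.Agent.H588.Rg.LiftEven
import Cfsg.Agent.H964.Rg.Res
import Cfsg.Agent.H883.Bridge
import Cfsg.Agent.H449.Reg.OddB

/-!
# S3691, `Ω₈⁻(q)`, `q > 13`: the residual case F-D- (helper485)

* `C8.res_odd`, `C8.res_even` : the factor fixing a nonsingular point contains the derived group of its stabiliser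
* `C8.main` : `∃ v, ResV hI X v ∨ ResV hI Y v`
-/

set_option autoImplicit false
set_option linter.unusedSectionVars false

namespace Cfsg.Agent.H485.Rg

open Module QuadraticMap Cfsg Cfsg.Geo Cfsg.Agent.LieClassical.OrthCore Cfsg.Agent.LieClassical.OrthTrans
  Cfsg.Agent.H454.Reg Cfsg.Agent.H884.El Cfsg.Agent.H955 Cfsg.Agent.H954.TSing Cfsg.Agent.H449.Reg
open Cfsg.Agent.H951 (fx cm Inv)
open Cfsg.Agent.H964.Rg (ResV)
open Cfsg.Agent.LieClassical.OrthFinite (glEquiv glEquiv_apply)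
open scoped MatrixGroups Matrix

universe u v

variable {F : Type} [Field F] [Fintype F] {Q : QuadraticForm F (Fin 8 → F)}
variable {G : Type u} [Group G] [Finite G] {T : Subgroup G} [T.Normal] {hG : Good Q} {eT : T ≃* POmega F (⇑Q)}
  {hI : Ind (eP hG eT)} {X Y : Subgroup G} {p f r₈ r₆ r₃ : ℕ} {v : Fin 8 → F}

namespace Side

theorem ne0 (hS : Side hI X Y p f r₈ r₆ r₃ v) : v ≠ 0 := by
  rintro rfl
  exact hS.ne (QuadraticMap.map_zero Q)

theorem le (hS : Side hI X Y p f r₈ r₆ r₃ v) : preG eT Y ≤ subspaceStabilizer (F ∙ v) :=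
  (inv0_iff hG).1 fun _ ht => hS.fix _ ht

theorem le_perp (hS : Side hI X Y p f r₈ r₆ r₃ v) : preG eT Y ≤ subspaceStabilizer (perp Q (F ∙ v)) :=
  stab_perp preG_le hS.le

theorem sgn (hS : Side hI X Y p f r₈ r₆ r₃ v) {g : GL (Fin 8) F} (hg : g ∈ preG eT Y) :
    (g : Matrix (Fin 8) (Fin 8) F) *ᵥ v = v ∨ (g : Matrix (Fin 8) (Fin 8) F) *ᵥ v = -v := by
  have h1 := H884.OmegaGL.mem_subspaceStabilizer.1 (hS.le hg) v (Submodule.mem_span_singleton_self v)
  obtain ⟨c, hc⟩ := Submodule.mem_span_singleton.1 h1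
  rw [glEquiv_apply] at hc
  have h2 := preG_le hg
  rw [LieClassical.OrthFinite.mem_isometryGroup_iff] at h2
  have h3 := h2 v
  rw [← hc, QuadraticMap.map_smul, smul_eq_mul] at h3
  have h4 : c * c = 1 := mul_right_cancel₀ hS.ne (by rw [h3, one_mul])
  rcases mul_self_eq_one_iff.1 h4 with h5 | h5
  · left; rw [← hc, h5, one_smul]
  · right; rw [← hc, h5, neg_one_smul]

theorem finrank_perp (hS : Side hI X Y p f r₈ r₆ r₃ v) : finrank F (perp Q (F ∙ v)) = 7 := by
  rw [Cfsg.Agent.H955.finrank_perp hG.nondeg, C8.finV, finrank_span_singleton hS.ne0]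

end Side

namespace C8

theorem two_ne (h : C8 hI X Y p f) (hp2 : p ≠ 2) : (2 : F) ≠ 0 := by
  intro h2
  have h3 : ((2 : ℕ) : F) = 0 := by exact_mod_cast h2
  obtain ⟨c, hc⟩ := CharP.exists F
  obtain ⟨n, hn, hn'⟩ := FiniteField.card F c
  have h4 : c ∣ 2 := (CharP.cast_eq_zero_iff F c 2).1 h3
  have h5 : c = 2 := (Nat.prime_dvd_prime_iff_eq hn Nat.prime_two).1 h4
  rw [← Nat.card_eq_fintype_card, h.card] at hn'
  have h6 : p ∣ c ^ (n : ℕ) := by rw [← hn']; exact dvd_pow_self p (by have := h.pos; omega)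
  have h7 : p = c := (Nat.prime_dvd_prime_iff_eq h.prime hn).1 (h.prime.dvd_of_dvd_pow h6)
  exact hp2 (h7.trans h5)

theorem fac_Y (r : ℕ) : (Nat.card (Y.subgroupOf T)).factorization r ≤ (Nat.card (preG eT Y)).factorization r := by
  have hfin : Finite (GL (Fin 8) F) := inferInstance
  exact (Nat.factorization_le_iff_dvd Nat.card_pos.ne' Nat.card_pos.ne').2 card_dvd_preG r

/-- the `p`-part of the factor `Y` -/
theorem parts (h : C8 hI X Y p f) (hS : Side hI X Y p f r₈ r₆ r₃ v) :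
    8 * f ≤ (Nat.card (preG eT Y)).factorization p + f.factorization p + (if p = 2 then 3 else 0) := by
  obtain ⟨K, hK, hXK⟩ := hS.fld
  have h1 := H976.Rg.ppart (by rw [Fintype.card_fin]) hG.nondeg h.minus h.prime h.pos h.card hK (preG_le (eT := eT) (X := X))
    hXK (h.pp hS.pp8) (hS.x8.trans card_dvd_preG)
  have h2 := h.le_parts h1
  have h3 := fac_Y (T := T) (Y := Y) (eT := eT) p
  omega

theorem fac_lt {a q : ℕ} (ha : 1 ≤ a) (hq : q.Prime) : a.factorization q < a := Nat.factorization_lt q (by omega)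

/-- **`q` odd** -/
theorem res_odd (h : C8 hI X Y p f) (hS : Side hI X Y p f r₈ r₆ r₃ v) (hp2 : p ≠ 2) : ResV hI Y v := by
  have h2 := h.two_ne hp2
  have hQ : Nondeg Q := hG.nondeg
  have hnd : Nondeg (res Q (perp Q (F ∙ v))) := nondeg_perp hQ (Ctx.nondeg_line h2 hS.ne)
  have hfac : ∀ {r : ℕ}, r.Prime → r ≠ 2 → (Nat.card (preG eT Y)).factorization r ≤
      (Nat.card (resG (perp Q (F ∙ v)) (preG eT Y))).factorization r := by
    intro r hr hr2
    refine fac_le_resG hS.le_perp (fun g hg hgU => ?_) hr hr2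
    refine Ctx.eq_one_of h2 hS.ne ?_ fun u hu => ?_
    · rw [pow_two, Units.val_mul, ← Matrix.mulVec_mulVec]
      rcases hS.sgn hg with h3 | h3
      · rw [h3, h3]
      · rw [h3, Matrix.mulVec_neg, h3, neg_neg]
    · rw [pow_two, Units.val_mul, ← Matrix.mulVec_mulVec, hgU u hu, hgU u hu]
  have hdvd : ∀ {k r : ℕ}, 3 ≤ k → PP p (f * k) r → r ∣ Nat.card (Y.subgroupOf T) →
      r ∣ Nat.card (resG (perp Q (F ∙ v)) (preG eT Y)) := by
    intro k r hk hr hd
    have h3 := (h.pp hr).lt (by omega)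
    have h4 := hfac hr.prime (by omega)
    have hfin : Finite (GL (Fin 8) F) := inferInstance
    have h5 := (hr.prime.dvd_iff_one_le_factorization Nat.card_pos.ne').1 (hd.trans (card_dvd_preG (eT := eT)))
    have h6 : (Nat.card (resG (perp Q (F ∙ v)) (preG eT Y))).factorization r ≠ 0 := by omega
    exact Nat.dvd_of_factorization_pos h6
  have hp := h.parts hS
  rw [if_neg hp2, add_zero] at hp
  have hf1 := fac_lt h.pos h.prime
  have hE : E (res Q (perp Q (F ∙ v))) ≤ resG (perp Q (F ∙ v)) (preG eT Y) := by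
    refine H142.Rg.seven_odd hnd hS.finrank_perp h.prime hp2 h.pos (by rw [← Nat.card_eq_fintype_card]; exact h.card) h.big
      hS.pp6 hS.pp3 (resG_le_O preG_le) (hdvd (by norm_num) hS.pp6 hS.y6) (hdvd (by norm_num) hS.pp3 hS.y3) ?_
    have := hfac h.prime hp2
    omega
  have hGU : Good (res Q (perp Q (F ∙ v))) := LieClassical.OrthFinite.good_of_finite hnd (by rw [hS.finrank_perp]; omega)
  exact ⟨hS.ne, hS.fix, fun u w hu hw huv hwv =>
    sieg_of hS.ne h2 preG_le (fun g hg => hS.sgn hg) hGU hE hu hw huv hwv⟩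

/-- **`q` even** -/
theorem res_even (h06 : ∀ H : Subgroup (GL (Fin 3 ⊕ Fin 3) F), IsMaximalIn (spGL 3 F) H →
      InSymplecticResidualClass H → H109.Cov.L06 H) (h : C8 hI X Y p f) (hS : Side hI X Y p f r₈ r₆ r₃ v)
    (hp2 : p = 2) : ResV hI Y v := by
  subst hp2
  have hQ : Nondeg Q := hG.nondeg
  have hcF : Fintype.card F = 2 ^ f := by rw [← Nat.card_eq_fintype_card]; exact h.card
  have h2 : (2 : F) = 0 := by
    have h1 : ((Fintype.card F : ℕ) : F) = 0 := Nat.cast_card_eq_zero F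
    rw [hcF, Nat.cast_pow] at h1
    exact_mod_cast pow_eq_zero_iff (by have := h.pos; omega) |>.1 h1
  have hf4 : 4 ≤ f := by
    by_contra hlt
    have h1 : 2 ^ f ≤ 2 ^ 3 := Nat.pow_le_pow_right (by norm_num) (by omega)
    have := h.big
    omega
  obtain ⟨U, hU, hU0⟩ := exists_compl (Q := Q) (v := v) h2
  set A : Subgroup ((Fin 8 → F) ≃ₗ[F] (Fin 8 → F)) := (preG eT Y).map (glEquiv (Fin 8) F).toMonoidHom with hA
  have hAE : A ≤ E Q := by
    rw [← H883.Bridge.map_omegaGL_eq_E hG]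
    exact Subgroup.map_mono preG_le_omega
  have hAO : A ≤ O Q := hAE.trans (E_le_O (Q := Q))
  have hAv : ∀ a ∈ A, a v = v := by
    rintro _ ⟨g, hg, rfl⟩
    change (g : Matrix (Fin 8) (Fin 8) F) *ᵥ v = v
    rcases hS.sgn hg with h3 | h3
    · exact h3
    · rw [h3, neg_eq_iff_add_eq_zero, ← two_smul F, h2, zero_smul]
  have hfinE : Finite ((Fin 8 → F) ≃ₗ[F] (Fin 8 → F)) :=
    Finite.of_injective (fun e : (Fin 8 → F) ≃ₗ[F] (Fin 8 → F) => (e : (Fin 8 → F) → (Fin 8 → F))) DFunLike.coe_injective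
  have hcard : Nat.card (bar A U v hAv) = Nat.card (preG eT Y) := by
    rw [card_bar hAO hAv hU hU0 (fun a ha hp => H212.Rg.faithful_even h2 hQ (by rw [finV]; norm_num) hS.ne (hAE ha)
      (hAv a ha) hp), hA]
    exact Subgroup.card_map_of_injective (glEquiv (Fin 8) F).injective
  have hU6 : finrank F U = 6 := by
    have := finrank_compl hQ hS.ne0 hU hU0
    rw [finV] at this
    omega
  have hp := h.parts hS
  rw [if_pos rfl] at hp
  -- `v_2(f) ≤ f - 2`
  have hf2 : f.factorization 2 + 2 ≤ f := by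
    have h1 := Nat.ordProj_le 2 (n := f) (by omega)
    by_contra hlt
    push Not at hlt
    have h3 : 2 ^ (f - 1) ≤ 2 ^ f.factorization 2 := Nat.pow_le_pow_right (by norm_num) (by omega)
    have h4 : f < 2 ^ (f - 1) := by
      obtain ⟨m, rfl⟩ : ∃ m, f = m + 4 := ⟨f - 4, by omega⟩
      have h5 : m < 2 ^ m := Nat.lt_two_pow_self
      have h6 : 2 ^ (m + 4 - 1) = 2 ^ m * 8 := by rw [show m + 4 - 1 = m + 3 by omega, pow_add]; norm_num
      rw [h6]
      omega
    omega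
  have hSp : ∀ x : U ≃ₗ[F] U, (∀ u w, polar (res Q U) (x u) (x w) = polar (res Q U) u w) →
      ∃ a ∈ A, ∀ u : U, ∃ c : F, a u = x u + c • v := by
    intro x hx
    have h1 : x ∈ bar A U v hAv := by
      refine H96.Rg.six_even_of h06 (nondeg_compl hQ hU hU0) hU6 hf4 hcF hS.pp6 hS.pp3
        (fun y hy => bar_polar h2 hAO hU hy) ?_ ?_ ?_ hx
      · rw [hcard]; exact hS.y6.trans card_dvd_preG
      · rw [hcard]; exact hS.y3.trans card_dvd_preG
      · rw [hcard]; omega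
    exact h1
  refine ⟨hS.ne, hS.fix, fun u w hu hw huv hwv => ?_⟩
  have h1 := H588.Rg.lift_even h2 hQ hS.ne hAE (by rw [finV]; norm_num) hAv hU hU0 hSp hu hw huv hwv
  obtain ⟨g, hg, hge⟩ := h1
  have h3 : (glEquiv (Fin 8) F).symm (siegel Q u w hu hw) = g := by
    rw [← hge]
    exact (glEquiv (Fin 8) F).symm_apply_apply g
  rw [h3]
  exact hg

theorem of_side (h06 : ∀ H : Subgroup (GL (Fin 3 ⊕ Fin 3) F), IsMaximalIn (spGL 3 F) H →
      InSymplecticResidualClass H → H109.Cov.L06 H) (h : C8 hI X Y p f) (hS : Side hI X Y p f r₈ r₆ r₃ v) :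
    ResV hI Y v := by
  by_cases hp2 : p = 2
  · exact h.res_even h06 hS hp2
  · exact h.res_odd hS hp2

/-- **the main theorem** -/
theorem main (h06 : ∀ H : Subgroup (GL (Fin 3 ⊕ Fin 3) F), IsMaximalIn (spGL 3 F) H →
      InSymplecticResidualClass H → H109.Cov.L06 H) (h : C8 hI X Y p f) : ∃ v, ResV hI X v ∨ ResV hI Y v := by
  have hp2 := h.prime.two_le
  have hbig := h.big
  obtain ⟨r₈, h8⟩ := exists_ppp (e := 8) h.prime h.pos (by norm_num) (by omega) (fun b hb => by omega)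
  obtain ⟨r₆, h6⟩ := exists_ppp (e := 6) h.prime h.pos (by norm_num) (by omega) (fun b hb => by omega)
  obtain ⟨r₃, h3⟩ : ∃ r, PP p (f * 3) r := by
    refine exists_pp h.prime.two_le (by have := h.pos; omega) ?_
    rintro ⟨rfl, h1⟩
    have h4 : f = 2 := by omega
    rw [h4] at hbig
    norm_num at hbig
  have h3f : ¬ r₃ ∣ f := by
    intro hd
    have h4 := h3.lt (by have := h.pos; omega)
    have h5 := Nat.le_of_dvd h.pos hd
    have := h.pos
    omega
  rcases h.fac.prime_dvd h8.prime (h.dvd 8 r₈ (Or.inl rfl) h8) (h.out 8 r₈ (by norm_num) h8) with hX | hY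
  · obtain ⟨v, hS⟩ := h.side h8 h6 h3 h3f hX
    exact ⟨v, Or.inr (h.of_side h06 hS)⟩
  · obtain ⟨v, hS⟩ := h.symm.side h8 h6 h3 h3f hY
    exact ⟨v, Or.inl (h.symm.of_side h06 hS)⟩

end C8

end Cfsg.Agent.H485.Rg
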