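import Cfsg.Agent.H485.Rg.MinusB
import Cfsg.Agent.H70.Rg.Primes
import Cfsg.Agent.AutOrth.Final
import Cfsg.Agent.H173.OI.Shape

/-!
# S3691, `Ω₈⁻(q)`, `q > 13`: the context (helper485)
-/

set_option autoImplicit false
set_option linter.unusedSectionVars false

namespace Cfsg.Agent.H485.Rg

open Module QuadraticMap Cfsg Cfsg.Geo Cfsg.Agent.LieClassical.OrthCore Cfsg.Agent.LieClassical.OrthTrans
  Cfsg.Agent.H454.Reg Cfsg.Agent.H884.El Cfsg.Agent.H955 Cfsg.Agent.H954.TSing Cfsg.Agent.H449.Reg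
open Cfsg.Agent.H964.Rg (ResV)
open Cfsg.Agent.LieClassical.OmegaReindex
open scoped MatrixGroups Matrix

universe u v

variable {G : Type u} [Group G] [Finite G] {T X Y : Subgroup G}

/-- **the context** of `PΩ₈⁻(q)` -/
theorem exists_c8 {F : Type} [Field F] [Fintype F] {p f : ℕ} (hp : p.Prime) (hf1 : 1 ≤ f)
    (hF : Fintype.card F = p ^ f) (hq : 13 < p ^ f) {a b : F}
    (hab : ∀ z₁ z₂ : F, z₁ ^ 2 + a * z₁ * z₂ + b * z₂ ^ 2 = 0 → z₁ = 0 ∧ z₂ = 0) [T.Normal] (hf : Fac T X Y)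
    (hT : Nonempty (T ≃* POmega F (quadFormMinus 3 F a b))) :
    ∃ (Q : QuadraticForm F (Fin 8 → F)) (hG : Good Q) (eT : T ≃* POmega F (⇑Q)) (hI : Ind (eP hG eT)), C8 hI X Y p f := by
  have hS := hf.simple
  let Q0 := quadMinus 3 F a b
  let e : (Fin 3 ⊕ Fin 3) ⊕ Fin 2 ≃ Fin 8 := Fintype.equivFinOfCardEq (by simp)
  let Q := reindexForm e Q0
  have hnd : (polarBilin Q).Nondegenerate := reindexForm_nondegenerate e Q0 (quadMinus_nondegenerate hab)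
  have hQ : Nondeg Q := nondeg_iff.2 hnd
  have hP : ¬ IsPlus Q := by
    rw [isPlus_iff_of_equiv (Q := Q) (Q' := Q0) (LinearEquiv.funCongrLeft F F e) (fun v => rfl)]
    exact not_isPlus_quadMinus hab
  have hG : Good Q := LieClassical.OrthFinite.good_of_finite hQ (by rw [C8.finV]; norm_num)
  obtain ⟨eT0⟩ := hT
  obtain ⟨e1⟩ : Nonempty (POmega F (⇑Q) ≃* POmega F (⇑Q0)) :=
    H173.OI.pomega_similar one_ne_zero (LinearEquiv.funCongrLeft F F e) (fun v => by rw [one_mul]; rfl)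
  have e2 : Nonempty (T ≃* POmega F (⇑Q0)) := ⟨by rw [coe_quadMinus]; exact eT0⟩
  obtain ⟨e2⟩ := e2
  let eT : T ≃* POmega F (⇑Q) := e2.trans e1.symm
  have hI : Ind (eP hG eT) := ind_of_surjective _ (AutOrth.Final.surjective_of_no_four hG (by rw [C8.finV]; norm_num)
    (fun _ W hW h4 => hP ⟨W, hW, by rw [h4, C8.finV]⟩))
  obtain ⟨hc1, hc2⟩ := H212.Rg.ominus8_parts hf.nonab hp hf1 hF hab ⟨eT0⟩
  refine ⟨Q, hG, eT, hI, hf, hp, hf1, by rw [Nat.card_eq_fintype_card, hF], hq, hP, ?_, ?_, hc1.ge, hc2⟩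
  · intro k r hk hr
    exact H370.Rg.out_ominus hf.nonab hp hf1 hF (n := 4) le_rfl hab ⟨eT0⟩ hr.prime hk hr.ord
  · rintro k r (rfl | rfl | rfl) hr
    · exact (H70.Rg.minus_even (m := 4) le_rfl hab hp hf1 hF (by decide) (by norm_num) (by norm_num) (by norm_num) hr
        ⟨eT0⟩).2.2
    · exact (H70.Rg.minus_even (m := 4) le_rfl hab hp hf1 hF (by decide) (by norm_num) (by norm_num) (by norm_num) hr
        ⟨eT0⟩).2.2
    · exact H70.Rg.minus_odd (m := 4) le_rfl hab hp hf1 hF (by norm_num) (by norm_num) hr ⟨eT0⟩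

/-- **`PΩ₈⁻(q)`, `q > 13`: reduction to the residual case F-D-** -/
theorem minus8 {F : Type} [Field F] [Fintype F] (h06 : ∀ H : Subgroup (GL (Fin 3 ⊕ Fin 3) F), IsMaximalIn (spGL 3 F) H →
      InSymplecticResidualClass H → H109.Cov.L06 H) {p f : ℕ} (hp : p.Prime) (hf1 : 1 ≤ f)
    (hF : Fintype.card F = p ^ f) (hq : 13 < p ^ f) {a b : F}
    (hab : ∀ z₁ z₂ : F, z₁ ^ 2 + a * z₁ * z₂ + b * z₂ ^ 2 = 0 → z₁ = 0 ∧ z₂ = 0) [T.Normal] (hf : Fac T X Y)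
    (hT : Nonempty (T ≃* POmega F (quadFormMinus 3 F a b))) :
    ∃ (Q : QuadraticForm F (Fin 8 → F)) (hG : Good Q) (eT : T ≃* POmega F (⇑Q)) (hI : Ind (eP hG eT)),
      C8 hI X Y p f ∧ ∃ v, ResV hI X v ∨ ResV hI Y v := by
  obtain ⟨Q, hG, eT, hI, h⟩ := exists_c8 hp hf1 hF hq hab hf hT
  exact ⟨Q, hG, eT, hI, h, h.main h06⟩

end Cfsg.Agent.H485.Rg
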